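/-
`pow_card_eq_one`: if `X` acts fixed point freely on `Q` and `Q`, `X` both act fixed point
freely on an abelian `V`, then `v ^ |Q| = 1` on `V` (so no such action with coprime orders).
-/
import Cfsg.Agent.Lib.Coprime.Abelian

set_option autoImplicit false

namespace Cfsg.Agent.FpfAction

open Cfsg.Agent.Coprime
open scoped IsMulCommutative

variable {G : Type*} [Group G] [Finite G]

theorem pow_card_eq_one {Q X V : Subgroup G} [IsMulCommutative V]
    (hXQ : X ≤ Subgroup.normalizer (Q : Set G)) (hQV : Q ≤ Subgroup.normalizer (V : Set G))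
    (hXV : X ≤ Subgroup.normalizer (V : Set G))
    (hfree : ∀ x ∈ X, x ≠ 1 → Q ⊓ Subgroup.centralizer ({x} : Set G) = ⊥)
    (hQfix : V ⊓ Subgroup.centralizer (Q : Set G) = ⊥)
    (hXfix : V ⊓ Subgroup.centralizer (X : Set G) = ⊥) (v : V) :
    v ^ Nat.card Q = 1 := by
  classical
  cases nonempty_fintype Q
  cases nonempty_fintype X
  have hQ1 : ∀ w : V, ∏ a : Q, conjAut hQV a w = 1 := fun w => by
    have := conjProd_mem_centralizer hQV w
    rw [hQfix, Subgroup.mem_bot, OneMemClass.coe_eq_one, conjProd_apply] at this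
    exact this
  have hX1 : ∀ w : V, ∏ x : X, conjAut hXV x w = 1 := fun w => by
    have := conjProd_mem_centralizer hXV w
    rw [hXfix, Subgroup.mem_bot, OneMemClass.coe_eq_one, conjProd_apply] at this
    exact this
  have htot : ∏ x : X, ∏ a : Q, conjAut hQV a (conjAut hXV x (conjAut hQV a⁻¹ v)) = 1 := by
    rw [Finset.prod_comm]
    refine Finset.prod_eq_one fun a _ => ?_
    rw [← map_prod, hX1, map_one]
  rw [Finset.prod_eq_single (1 : X)] at htot
  · simpa using htot
  · intro x _ hx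
    have hx1 : (x : G) ≠ 1 := fun h => hx (OneMemClass.coe_eq_one.1 h)
    -- `a ↦ [a, x]` permutes `Q`
    let f : Q → Q := fun a => ⟨(a : G) * ((x : G) * (a : G)⁻¹ * (x : G)⁻¹), mul_mem a.2
      ((Subgroup.mem_normalizer_iff.1 (hXQ x.2) _).1 (inv_mem a.2))⟩
    have hf : Function.Bijective f := by
      refine Finite.injective_iff_bijective.1 fun a b h => ?_
      have h' : (a : G) * ((x : G) * (a : G)⁻¹ * (x : G)⁻¹) =
          (b : G) * ((x : G) * (b : G)⁻¹ * (x : G)⁻¹) := congrArg Subtype.val h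
      have hc : (b : G)⁻¹ * a ∈ Q ⊓ Subgroup.centralizer ({(x : G)} : Set G) := by
        refine Subgroup.mem_inf.2 ⟨Q.mul_mem (Q.inv_mem b.2) a.2, Subgroup.mem_centralizer_singleton_iff.2 ?_⟩
        calc (b : G)⁻¹ * a * x
            = (b : G)⁻¹ * ((a : G) * ((x : G) * (a : G)⁻¹ * (x : G)⁻¹)) * x * a := by group
          _ = (b : G)⁻¹ * ((b : G) * ((x : G) * (b : G)⁻¹ * (x : G)⁻¹)) * x * a := by rw [h']
          _ = x * ((b : G)⁻¹ * a) := by group
      rw [hfree _ x.2 hx1, Subgroup.mem_bot, inv_mul_eq_one] at hc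
      exact Subtype.ext hc.symm
    refine Eq.trans (Fintype.prod_bijective f hf _ (fun c => conjAut hQV c (conjAut hXV x v))
      fun a => ?_) (hQ1 _)
    apply Subtype.ext
    simp only [coe_conjAut, Subgroup.coe_inv, f]
    group
  · simp

end Cfsg.Agent.FpfAction
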